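import Groth.Agent.UILLib.Assemble
import Groth.Agent.RegLocal.GlobalDim

/-!
# Projective dimension of modules flat over a valuation ring

A finite module, flat over a valuation ring, over a local ring essentially of finite type over the
valuation ring has at most the projective dimension of its closed fibre.
-/

set_option autoImplicit false
set_option linter.style.haveILetI false
set_option linter.unusedSectionVars false
set_option maxHeartbeats 1000000
set_option backward.isDefEq.respectTransparency false

universe u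

open CategoryTheory IsLocalRing TensorProduct

noncomputable section

namespace Groth.Agent.FlatValPD

variable (W : Type u) {A : Type u} [CommRing W] [IsDomain W] [ValuationRing W] [CommRing A] [IsLocalRing A]
  [Algebra W A] [IsLocalHom (algebraMap W A)] [Algebra.EssFiniteType W A]

/-- The extension of the maximal ideal. -/
abbrev fibIdeal (A : Type u) [CommRing A] [Algebra W A] : Ideal A := (maximalIdeal W).map (algebraMap W A)

theorem fibIdeal_le : fibIdeal W A ≤ maximalIdeal A :=
  Ideal.map_le_iff_le_comap.mpr fun w hw => (mem_maximalIdeal _).mpr fun hu =>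
    (mem_maximalIdeal _).mp hw (IsUnit.of_map (algebraMap W A) w hu)

/-- Linear maps are linear over surjective images of the scalars. -/
def extR {R S M N : Type*} [CommRing R] [CommRing S] [Algebra R S] (h : Function.Surjective (algebraMap R S))
    [AddCommGroup M] [Module R M] [Module S M] [IsScalarTower R S M] [AddCommGroup N] [Module R N] [Module S N]
    [IsScalarTower R S N] (f : M →ₗ[R] N) : M →ₗ[S] N where
  toFun := f
  map_add' := f.map_add
  map_smul' c x := by
    obtain ⟨c, rfl⟩ := h c
    rw [RingHom.id_apply, algebraMap_smul, algebraMap_smul, f.map_smul]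

section Module

variable {N : Type u} [AddCommGroup N] [Module A N] [Module W N] [IsScalarTower W A N]

/-- Finite flat modules are finitely presented. -/
theorem finitePresentation_of_flat [Module.Finite A N] [Module.Flat W N] : Module.FinitePresentation A N :=
  (UILLib.main (A := W) (B := A) (LinearMap.id : N →ₗ[W] N) (by rw [LinearMap.lTensor_id]; exact Function.injective_id)).2.1

/-- Over a valuation ring an element of the extended ideal is a single multiple. -/
theorem exists_smul_eq_of_mem {x : N} (hx : x ∈ (fibIdeal W A • ⊤ : Submodule A N)) :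
    ∃ w ∈ maximalIdeal W, ∃ y : N, w • y = x := by
  induction hx using Submodule.smul_induction_on' with
  | smul r hr y _ =>
    induction hr using Submodule.span_induction generalizing y with
    | mem r hr =>
      obtain ⟨w, hw, rfl⟩ := hr
      exact ⟨w, hw, y, (algebraMap_smul A w y).symm⟩
    | zero => exact ⟨0, zero_mem _, 0, by rw [zero_smul, zero_smul]⟩
    | add r r' _ _ hr hr' =>
      obtain ⟨w, hw, y₁, h₁⟩ := hr y trivial
      obtain ⟨w', hw', y₂, h₂⟩ := hr' y trivial
      rcases ValuationRing.dvd_total w w' with ⟨c, rfl⟩ | ⟨c, rfl⟩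
      · exact ⟨w, hw, y₁ + c • y₂, by rw [smul_add, ← mul_smul, h₁, h₂, add_smul]⟩
      · exact ⟨w', hw', c • y₁ + y₂, by rw [smul_add, ← mul_smul, h₁, h₂, add_smul]⟩
    | smul a r _ hr =>
      obtain ⟨w, hw, y₁, h₁⟩ := hr y trivial
      exact ⟨w, hw, a • y₁, by rw [smul_comm, h₁, smul_eq_mul, mul_smul]⟩
  | add y _ z _ hy hz =>
    obtain ⟨w, hw, y, rfl⟩ := hy
    obtain ⟨w', hw', z, rfl⟩ := hz
    rcases ValuationRing.dvd_total w w' with ⟨c, rfl⟩ | ⟨c, rfl⟩
    · exact ⟨w, hw, y + c • z, by rw [smul_add, mul_smul]⟩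
    · exact ⟨w', hw', c • y + z, by rw [smul_add, mul_smul]⟩

/-- Multiples of elements of the maximal ideal. -/
theorem smul_mem_fibIdeal {w : W} (hw : w ∈ maximalIdeal W) (y : N) : w • y ∈ (fibIdeal W A • ⊤ : Submodule A N) := by
  rw [← algebraMap_smul A w y]
  exact Submodule.smul_mem_smul (Ideal.mem_map_of_mem _ hw) Submodule.mem_top

/-- A module which is torsion-free over a valuation ring. -/
theorem flat_of_injective {N' : Type u} [AddCommGroup N'] [Module W N'] [Module.Flat W N'] (f : N →ₗ[W] N')
    (hf : Function.Injective f) : Module.Flat W N := by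
  have h : Submodule.torsion W N' = ⊥ := Module.Flat.flat_iff_torsion_eq_bot_of_isBezout.mp ‹_›
  rw [Module.Flat.flat_iff_torsion_eq_bot_of_isBezout, eq_bot_iff]
  rintro x ⟨w, hw⟩
  refine (Submodule.mem_bot W).mpr (hf ?_)
  rw [map_zero, ← Submodule.mem_bot W, ← h]
  exact ⟨w, by rw [Submonoid.smul_def, ← map_smul, ← Submonoid.smul_def, hw, map_zero]⟩

/-- A flat module with free fibre is free. -/
theorem free_of_projective_fibre [Module.Finite A N] [Module.Flat W N]
    [Module.Projective (A ⧸ fibIdeal W A) (N ⧸ (fibIdeal W A • ⊤ : Submodule A N))] : Module.Free A N := by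
  classical
  let I := fibIdeal W A
  haveI : Nontrivial (A ⧸ I) := Ideal.Quotient.nontrivial_iff.mpr fun h =>
    (maximalIdeal.isMaximal A).ne_top (top_le_iff.mp (h ▸ fibIdeal_le W))
  haveI : IsLocalRing (A ⧸ I) := .of_surjective' (Ideal.Quotient.mk I) Ideal.Quotient.mk_surjective
  haveI : Module.Finite (A ⧸ I) (N ⧸ (I • ⊤ : Submodule A N)) := Module.Finite.of_restrictScalars_finite A (A ⧸ I) _
  haveI : Module.FinitePresentation (A ⧸ I) (N ⧸ (I • ⊤ : Submodule A N)) :=
    Module.finitePresentation_of_projective (A ⧸ I) _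
  haveI : Module.Free (A ⧸ I) (N ⧸ (I • ⊤ : Submodule A N)) := Module.free_of_flat_of_isLocalRing
  let β := Module.Free.chooseBasis (A ⧸ I) (N ⧸ (I • ⊤ : Submodule A N))
  let ι := Module.Free.ChooseBasisIndex (A ⧸ I) (N ⧸ (I • ⊤ : Submodule A N))
  choose v hv using fun i : ι => Submodule.Quotient.mk_surjective _ (β i)
  let g : (ι → A) →ₗ[A] N := Fintype.linearCombination A v
  have hg : ∀ x : ι → A, Submodule.Quotient.mk (p := (I • ⊤ : Submodule A N)) (g x) =
      ∑ i, Ideal.Quotient.mk I (x i) • β i := fun x => by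
    rw [show g x = ∑ i, x i • v i from Fintype.linearCombination_apply A v x, ← Submodule.mkQ_apply, map_sum]
    refine Finset.sum_congr rfl fun i _ => ?_
    rw [map_smul, Submodule.mkQ_apply, hv, ← Ideal.Quotient.algebraMap_eq, algebraMap_smul]
  have hinj : Function.Injective ((g.restrictScalars W).lTensor (W ⧸ maximalIdeal W)) := by
    rw [injective_iff_map_eq_zero]
    intro z hz
    let e := TensorProduct.quotTensorEquivQuotSMul (ι → A) (maximalIdeal W)
    let e' := TensorProduct.quotTensorEquivQuotSMul N (maximalIdeal W)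
    obtain ⟨x, rfl⟩ : ∃ x : ι → A, ((1 : W ⧸ maximalIdeal W) ⊗ₜ[W] x) = z := by
      obtain ⟨x, hx⟩ := Submodule.Quotient.mk_surjective _ (e z)
      exact ⟨x, e.injective (by rw [TensorProduct.quotTensorEquivQuotSMul_mk_one_tmul, hx])⟩
    rw [LinearMap.lTensor_tmul] at hz
    have h1 := congrArg e' hz
    rw [map_zero, TensorProduct.quotTensorEquivQuotSMul_mk_one_tmul, Submodule.Quotient.mk_eq_zero] at h1
    have h2 : g x ∈ (I • ⊤ : Submodule A N) := by
      change g x ∈ (maximalIdeal W • ⊤ : Submodule W N) at h1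
      exact Submodule.smul_induction_on h1 (fun w hw y _ => smul_mem_fibIdeal W hw y) fun y z hy hz => add_mem hy hz
    have h3 := hg x
    rw [(Submodule.Quotient.mk_eq_zero _).mpr h2] at h3
    have h4 : ∀ i, x i ∈ I := fun i => Ideal.Quotient.eq_zero_iff_mem.mp
      (Fintype.linearIndependent_iff.mp β.linearIndependent _ h3.symm i)
    apply e.injective
    rw [map_zero, TensorProduct.quotTensorEquivQuotSMul_mk_one_tmul, Submodule.Quotient.mk_eq_zero]
    have h5 : x ∈ (I • ⊤ : Submodule A (ι → A)) := by
      rw [pi_eq_sum_univ x]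
      exact Submodule.sum_mem _ fun i _ => Submodule.smul_mem_smul (h4 i) Submodule.mem_top
    obtain ⟨w, hw, y, hy⟩ := exists_smul_eq_of_mem W h5
    rw [← hy]
    exact Submodule.smul_mem_smul hw Submodule.mem_top
  obtain ⟨h1, -, -⟩ := UILLib.main (A := W) (B := A) (g.restrictScalars W) hinj
  have hgi : Function.Injective g := fun x y hxy => by
    have h2 := h1 W (a₁ := x ⊗ₜ (1 : W)) (a₂ := y ⊗ₜ (1 : W))
      (by rw [LinearMap.rTensor_tmul, LinearMap.rTensor_tmul, LinearMap.restrictScalars_apply,
        LinearMap.restrictScalars_apply, hxy])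
    exact (TensorProduct.rid W _).symm.injective (by simpa using h2)
  have hgs : Function.Surjective g := by
    rw [← LinearMap.range_eq_top, ← top_le_iff]
    refine Submodule.le_of_le_smul_of_le_jacobson_bot (Module.Finite.fg_top)
      (IsLocalRing.maximalIdeal_le_jacobson _) (fun y _ => ?_)
    obtain ⟨c, hc⟩ : ∃ c : ι → A ⧸ I, ∑ i, c i • β i = Submodule.Quotient.mk y :=
      ⟨fun i => β.repr (Submodule.Quotient.mk y) i, β.sum_repr _⟩
    choose x hx using fun i => Ideal.Quotient.mk_surjective (c i)
    have h6 : y - g x ∈ (I • ⊤ : Submodule A N) := by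
      rw [← Submodule.Quotient.eq, hg, ← hc]
      simp only [hx]
    refine Submodule.mem_sup.mpr ⟨g x, ⟨x, rfl⟩, y - g x, Submodule.smul_mono (fibIdeal_le W) le_rfl h6, ?_⟩
    abel
  exact Module.Free.of_equiv (LinearEquiv.ofBijective g ⟨hgi, hgs⟩)

end Module

section Dimension

variable {N : Type u} [AddCommGroup N] [Module A N] [Module W N] [IsScalarTower W A N]

/-- A finite module is a quotient of a finite free module with flat, finitely presented kernel. -/
theorem exists_presentation [Module.Finite A N] (hfp : Module.FinitePresentation A N) :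
    ∃ (r : ℕ) (π : (Fin r → A) →ₗ[A] N), Function.Surjective π ∧ Module.Finite A (LinearMap.ker π) := by
  obtain ⟨r, π, hπ⟩ := Module.Finite.exists_fin' A N
  exact ⟨r, π, hπ, Module.Finite.iff_fg.mpr (Module.FinitePresentation.fg_ker π hπ)⟩

variable [Module.Flat W A]

/-- A finite power of a flat algebra is flat. -/
theorem flat_pi (r : ℕ) : Module.Flat W (Fin r → A) := by
  have h : Submodule.torsion W A = ⊥ := Module.Flat.flat_iff_torsion_eq_bot_of_isBezout.mp ‹_›
  rw [Module.Flat.flat_iff_torsion_eq_bot_of_isBezout, eq_bot_iff]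
  rintro x ⟨w, hw⟩
  refine (Submodule.mem_bot W).mpr (funext fun i => ?_)
  rw [Pi.zero_apply, ← Submodule.mem_bot W, ← h]
  exact ⟨w, congrFun hw i⟩

/-- The kernel of a map from a free module is flat. -/
theorem flat_ker {r : ℕ} (π : (Fin r → A) →ₗ[A] N) : Module.Flat W (LinearMap.ker π) :=
  haveI := flat_pi (W := W) (A := A) r
  flat_of_injective W ((LinearMap.ker π).subtype.restrictScalars W) Subtype.val_injective

/-- Short exactness of the reduction to the closed fibre. -/
theorem hasProjectiveDimensionLT_ker [Module.Flat W N] {r : ℕ} (π : (Fin r → A) →ₗ[A] N) (hπ : Function.Surjective π)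
    (k : ℕ) (h : HasProjectiveDimensionLT (ModuleCat.of (A ⧸ fibIdeal W A) (N ⧸ (fibIdeal W A • ⊤ : Submodule A N))) (k + 2)) :
    HasProjectiveDimensionLT (ModuleCat.of (A ⧸ fibIdeal W A)
      (LinearMap.ker π ⧸ (fibIdeal W A • ⊤ : Submodule A (LinearMap.ker π)))) (k + 1) := by
  classical
  let I := fibIdeal W A
  let K := LinearMap.ker π
  let F := Fin r → A
  let i0 : (K ⧸ (I • ⊤ : Submodule A K)) →ₗ[A] F ⧸ (I • ⊤ : Submodule A F) :=
    Submodule.mapQ _ _ K.subtype (Submodule.smul_top_le_comap_smul_top I K.subtype)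
  let p0 : (F ⧸ (I • ⊤ : Submodule A F)) →ₗ[A] N ⧸ (I • ⊤ : Submodule A N) :=
    Submodule.mapQ _ _ π (Submodule.smul_top_le_comap_smul_top I π)
  have htor : ∀ {w : W} {y : N}, w ≠ 0 → w • y = 0 → y = 0 := fun {w y} hw hwy => by
    have h : Submodule.torsion W N = ⊥ := Module.Flat.flat_iff_torsion_eq_bot_of_isBezout.mp ‹_›
    rw [← Submodule.mem_bot W, ← h]
    exact ⟨⟨w, mem_nonZeroDivisors_of_ne_zero hw⟩, hwy⟩
  have hinj : Function.Injective i0 := by
    rw [injective_iff_map_eq_zero]
    intro x hx
    obtain ⟨x, rfl⟩ := Submodule.Quotient.mk_surjective _ x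
    rw [Submodule.mapQ_apply, Submodule.Quotient.mk_eq_zero] at hx
    obtain ⟨w, hw, y, hy⟩ := exists_smul_eq_of_mem W hx
    rw [Submodule.Quotient.mk_eq_zero]
    rcases eq_or_ne w 0 with rfl | hw0
    · rw [zero_smul] at hy
      rw [show x = 0 from Subtype.ext hy.symm]
      exact zero_mem _
    have hyK : y ∈ K := htor hw0 (by
      have := congrArg (π.restrictScalars W) hy
      rwa [map_smul, LinearMap.restrictScalars_apply, LinearMap.restrictScalars_apply,
        show π (K.subtype x) = 0 from x.2] at this)
    rw [show x = w • (⟨y, hyK⟩ : K) from Subtype.ext hy.symm]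
    exact smul_mem_fibIdeal W hw _
  have hsurj : Function.Surjective p0 := fun y => by
    obtain ⟨y, rfl⟩ := Submodule.Quotient.mk_surjective _ y
    obtain ⟨x, rfl⟩ := hπ y
    exact ⟨Submodule.Quotient.mk x, rfl⟩
  have hex : Function.Exact i0 p0 := fun y => by
    constructor
    · intro hy
      obtain ⟨y, rfl⟩ := Submodule.Quotient.mk_surjective _ y
      rw [Submodule.mapQ_apply, Submodule.Quotient.mk_eq_zero] at hy
      obtain ⟨w, hw, z, hz⟩ := exists_smul_eq_of_mem W hy
      obtain ⟨z, rfl⟩ := hπ z
      refine ⟨Submodule.Quotient.mk ⟨y - w • z, ?_⟩, ?_⟩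
      · rw [LinearMap.mem_ker, map_sub, ← LinearMap.restrictScalars_apply (R := W) π (w • z), map_smul,
          LinearMap.restrictScalars_apply, hz, sub_self]
      · rw [Submodule.mapQ_apply, Submodule.Quotient.eq]
        show y - w • z - y ∈ _
        rw [sub_sub_cancel_left]
        exact neg_mem (smul_mem_fibIdeal W hw _)
    · rintro ⟨x, rfl⟩
      obtain ⟨x, rfl⟩ := Submodule.Quotient.mk_surjective _ x
      rw [Submodule.mapQ_apply, Submodule.mapQ_apply, show π (K.subtype x) = 0 from x.2]
      rfl
  let R := A ⧸ I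
  let i : (K ⧸ (I • ⊤ : Submodule A K)) →ₗ[R] F ⧸ (I • ⊤ : Submodule A F) :=
    extR (R := A) Ideal.Quotient.mk_surjective i0
  let p : (F ⧸ (I • ⊤ : Submodule A F)) →ₗ[R] N ⧸ (I • ⊤ : Submodule A N) :=
    extR (R := A) Ideal.Quotient.mk_surjective p0
  let S : ShortComplex (ModuleCat.{u} R) := ShortComplex.mk (ModuleCat.ofHom i) (ModuleCat.ofHom p)
    (ModuleCat.hom_ext (LinearMap.ext fun x => hex.apply_apply_eq_zero x))
  have hS : S.ShortExact :=
    { exact := (ShortComplex.ShortExact.moduleCat_exact_iff_function_exact S).mpr hex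
      mono_f := (ModuleCat.mono_iff_injective _).mpr hinj
      epi_g := (ModuleCat.epi_iff_surjective _).mpr hsurj }
  have hF : Module.Projective R (F ⧸ (I • ⊤ : Submodule A F)) := by
    let e := TensorProduct.quotTensorEquivQuotSMul F I
    haveI : Module.Projective (A ⧸ I) ((A ⧸ I) ⊗[A] F) := inferInstance
    exact Module.Projective.of_equiv
      (LinearEquiv.ofBijective (extR (R := A) (S := A ⧸ I) Ideal.Quotient.mk_surjective e.toLinearMap) e.bijective)
  haveI : Projective S.X₂ := (IsProjective.iff_projective _).mp hF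
  exact hS.hasProjectiveDimensionLT_X₁ (k + 1) inferInstance h

end Dimension

/-- The projective dimension is at most that of the closed fibre. -/
theorem hasProjectiveDimensionLT_of_fibre [Module.Flat W A] : ∀ (k : ℕ) (N : Type u) [AddCommGroup N] [Module A N]
    [Module W N] [IsScalarTower W A N] [Module.Finite A N] [Module.Flat W N],
    HasProjectiveDimensionLT (ModuleCat.of (A ⧸ fibIdeal W A) (N ⧸ (fibIdeal W A • ⊤ : Submodule A N))) (k + 1) →
      HasProjectiveDimensionLT (ModuleCat.of A N) (k + 1) := by
  intro k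
  induction k with
  | zero =>
    intro N _ _ _ _ _ _ h
    haveI : Projective (ModuleCat.of (A ⧸ fibIdeal W A) (N ⧸ (fibIdeal W A • ⊤ : Submodule A N))) :=
      (projective_iff_hasProjectiveDimensionLE_zero _).mpr h
    haveI : Module.Projective (A ⧸ fibIdeal W A) (N ⧸ (fibIdeal W A • ⊤ : Submodule A N)) :=
      (IsProjective.iff_projective _).mpr ‹_›
    haveI := free_of_projective_fibre W (A := A) (N := N)
    exact (projective_iff_hasProjectiveDimensionLE_zero _).mp ((IsProjective.iff_projective _).mp Module.Projective.of_free)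
  | succ k ih =>
    intro N _ _ _ _ _ _ h
    obtain ⟨r, π, hπ, hfin⟩ := exists_presentation (finitePresentation_of_flat W (A := A) (N := N))
    haveI := flat_ker W π
    have hK := ih (LinearMap.ker π) (hasProjectiveDimensionLT_ker W π hπ k h)
    let S : ShortComplex (ModuleCat.{u} A) := ShortComplex.mk (ModuleCat.ofHom (LinearMap.ker π).subtype)
      (ModuleCat.ofHom π) (ModuleCat.hom_ext (LinearMap.ext fun x => x.2))
    have hS : S.ShortExact :=
      { exact := (ShortComplex.ShortExact.moduleCat_exact_iff_function_exact S).mpr (LinearMap.exact_subtype_ker_map π)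
        mono_f := (ModuleCat.mono_iff_injective _).mpr Subtype.val_injective
        epi_g := (ModuleCat.epi_iff_surjective _).mpr hπ }
    haveI : Projective S.X₂ := (IsProjective.iff_projective _).mp Module.Projective.of_free
    exact hS.hasProjectiveDimensionLT_X₃ (k + 1) hK inferInstance


end Groth.Agent.FlatValPD
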