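import Groth.Agent.FlatValPD.Basic

/-!
# Local rings of finitely presented flat algebras over valuation rings
-/

set_option autoImplicit false
set_option linter.style.haveILetI false
set_option linter.unusedSectionVars false
set_option maxHeartbeats 1000000
set_option backward.isDefEq.respectTransparency false

universe u

open CategoryTheory IsLocalRing

noncomputable section

namespace Groth.Agent.FlatValPD

/-- Localizations of valuation rings at primes are valuation rings. -/
theorem valuationRing_localization (V : Type u) [CommRing V] [IsDomain V] [ValuationRing V] (p : Ideal V) [p.IsPrime] :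
    ValuationRing (Localization.AtPrime p) := by
  refine ValuationRing.iff_dvd_total.mpr ⟨fun x y => ?_⟩
  obtain ⟨a, s, rfl⟩ := IsLocalization.exists_mk'_eq p.primeCompl x
  obtain ⟨b, t, rfl⟩ := IsLocalization.exists_mk'_eq p.primeCompl y
  have h : ∀ (a : V) (s : p.primeCompl), Associated (algebraMap V (Localization.AtPrime p) a) (IsLocalization.mk' _ a s) :=
    fun a s => by
      refine Associated.symm ⟨(IsLocalization.map_units (Localization.AtPrime p) s).unit, ?_⟩
      rw [IsUnit.unit_spec, IsLocalization.mk'_spec]
  rcases ValuationRing.dvd_total a b with hab | hab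
  · exact Or.inl ((h a s).dvd_iff_dvd_left.mp ((h b t).dvd_iff_dvd_right.mp (map_dvd _ hab)))
  · exact Or.inr ((h b t).dvd_iff_dvd_left.mp ((h a s).dvd_iff_dvd_right.mp (map_dvd _ hab)))

variable {V : Type u} [CommRing V] [IsDomain V] [ValuationRing V] {B : Type u} [CommRing B] [Algebra V B]
  [Module.Flat V B] [Algebra.FinitePresentation V B] (q : Ideal B) [q.IsPrime] (n : ℕ)

/-- The bound for flat modules. -/
theorem hasProjectiveDimensionLE_of_flat
    (hreg : IsRegularLocalRing (Localization.AtPrime q ⧸ Ideal.map (algebraMap V (Localization.AtPrime q)) (Ideal.comap (algebraMap V B) q)))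
    (hn : ringKrullDim (Localization.AtPrime q ⧸ Ideal.map (algebraMap V (Localization.AtPrime q)) (Ideal.comap (algebraMap V B) q)) = n)
    (M : Type u) [AddCommGroup M] [Module (Localization.AtPrime q) M] [Module.Finite (Localization.AtPrime q) M]
    [Module V M] [IsScalarTower V (Localization.AtPrime q) M] [Module.Flat V M] :
    HasProjectiveDimensionLE (ModuleCat.of (Localization.AtPrime q) M) n := by
  let A := Localization.AtPrime q
  let p := q.comap (algebraMap V B)
  let W := Localization.AtPrime p
  haveI : ValuationRing W := valuationRing_localization V p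
  let φ : W →+* A := Localization.localRingHom p q (algebraMap V B) rfl
  letI : Algebra W A := φ.toAlgebra
  haveI : IsScalarTower V W A := .of_algebraMap_eq fun v => by
    show algebraMap V A v = φ (algebraMap V W v)
    rw [Localization.localRingHom_to_map, ← IsScalarTower.algebraMap_apply]
  haveI : IsLocalHom (algebraMap W A) := Localization.isLocalHom_localRingHom p q (algebraMap V B) rfl
  haveI : Algebra.EssFiniteType B A := Algebra.EssFiniteType.of_isLocalization A q.primeCompl
  haveI : Algebra.EssFiniteType V A := Algebra.EssFiniteType.comp V B A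
  haveI : Algebra.EssFiniteType W A := Algebra.EssFiniteType.of_comp V W A
  haveI : Module.Flat B A := IsLocalization.flat A q.primeCompl
  haveI : Module.Flat V A := Module.Flat.trans V B A
  haveI : Module.Flat W A := (Module.flat_iff_of_isLocalization W p.primeCompl (M := A)).mpr inferInstance
  letI : Module W M := Module.compHom M (algebraMap W A)
  haveI : IsScalarTower W A M := .of_algebraMap_smul fun _ _ => rfl
  haveI : IsScalarTower V W M := .of_algebraMap_smul fun v x => by
    show algebraMap W A (algebraMap V W v) • x = v • x
    rw [← IsScalarTower.algebraMap_apply, algebraMap_smul]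
  haveI : Module.Flat W M := (Module.flat_iff_of_isLocalization W p.primeCompl (M := M)).mpr inferInstance
  have hI : fibIdeal W A = Ideal.map (algebraMap V A) p := by
    show (maximalIdeal W).map (algebraMap W A) = _
    rw [← Localization.AtPrime.map_eq_maximalIdeal, Ideal.map_map, ← IsScalarTower.algebraMap_eq]
  change IsRegularLocalRing (A ⧸ Ideal.map (algebraMap V A) p) at hreg
  change ringKrullDim (A ⧸ Ideal.map (algebraMap V A) p) = n at hn
  rw [← hI] at hreg hn
  haveI := hreg
  exact hasProjectiveDimensionLT_of_fibre W n M (RegLocal.hasProjectiveDimensionLT (A ⧸ fibIdeal W A) n hn _)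

/-- The short exact sequence of a surjection. -/
theorem shortExact_ker {A : Type u} [CommRing A] {F M : Type u} [AddCommGroup F] [Module A F] [AddCommGroup M] [Module A M]
    (π : F →ₗ[A] M) (hπ : Function.Surjective π) :
    (ShortComplex.mk (ModuleCat.ofHom (LinearMap.ker π).subtype) (ModuleCat.ofHom π)
      (ModuleCat.hom_ext (LinearMap.ext fun x => x.2))).ShortExact :=
  { exact := (ShortComplex.ShortExact.moduleCat_exact_iff_function_exact _).mpr (LinearMap.exact_subtype_ker_map π)
    mono_f := (ModuleCat.mono_iff_injective _).mpr Subtype.val_injective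
    epi_g := (ModuleCat.epi_iff_surjective _).mpr hπ }

/-- Torsion-free submodules of free modules. -/
theorem flat_submodule_pi {r : ℕ} (K : Submodule (Localization.AtPrime q) (Fin r → Localization.AtPrime q)) :
    Module.Flat V K := by
  haveI : Module.Flat B (Localization.AtPrime q) := IsLocalization.flat (Localization.AtPrime q) q.primeCompl
  haveI : Module.Flat V (Localization.AtPrime q) := Module.Flat.trans V B _
  have h : Submodule.torsion V (Localization.AtPrime q) = ⊥ :=
    Module.Flat.flat_iff_torsion_eq_bot_of_isBezout.mp ‹_›
  rw [Module.Flat.flat_iff_torsion_eq_bot_of_isBezout, eq_bot_iff]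
  rintro x ⟨w, hw⟩
  refine (Submodule.mem_bot V).mpr (Subtype.ext (funext fun i => ?_))
  rw [ZeroMemClass.coe_zero, Pi.zero_apply, ← Submodule.mem_bot V, ← h]
  exact ⟨w, congrFun (congrArg Subtype.val hw) i⟩

/-- The bound for all modules. -/
theorem hasProjectiveDimensionLE_succ
    (hreg : IsRegularLocalRing (Localization.AtPrime q ⧸ Ideal.map (algebraMap V (Localization.AtPrime q)) (Ideal.comap (algebraMap V B) q)))
    (hn : ringKrullDim (Localization.AtPrime q ⧸ Ideal.map (algebraMap V (Localization.AtPrime q)) (Ideal.comap (algebraMap V B) q)) = n)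
    (M : Type u) [AddCommGroup M] [Module (Localization.AtPrime q) M] [Module.FinitePresentation (Localization.AtPrime q) M] :
    HasProjectiveDimensionLE (ModuleCat.of (Localization.AtPrime q) M) (n + 1) := by
  obtain ⟨r, π, hπ⟩ := Module.Finite.exists_fin' (Localization.AtPrime q) M
  haveI : Module.Finite (Localization.AtPrime q) (LinearMap.ker π) :=
    Module.Finite.iff_fg.mpr (Module.FinitePresentation.fg_ker π hπ)
  haveI := flat_submodule_pi q (V := V) (LinearMap.ker π)
  have hK := hasProjectiveDimensionLE_of_flat q n hreg hn (LinearMap.ker π)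
  haveI : Projective (ModuleCat.of (Localization.AtPrime q) (Fin r → Localization.AtPrime q)) :=
    (IsProjective.iff_projective _).mp Module.Projective.of_free
  exact (shortExact_ker π hπ).hasProjectiveDimensionLT_X₃ (n + 1) hK inferInstance

/-- Finite flat modules over the local ring are finitely presented. -/
theorem finitePresentation_of_flat_localized (M : Type u) [AddCommGroup M] [Module (Localization.AtPrime q) M]
    [Module.Finite (Localization.AtPrime q) M] [Module V M] [IsScalarTower V (Localization.AtPrime q) M] [Module.Flat V M] :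
    Module.FinitePresentation (Localization.AtPrime q) M := by
  let A := Localization.AtPrime q
  let p := q.comap (algebraMap V B)
  haveI : Module.Flat B A := IsLocalization.flat A q.primeCompl
  haveI : Module.Flat V A := Module.Flat.trans V B A
  let W := Localization.AtPrime p
  haveI : ValuationRing W := valuationRing_localization V p
  let φ : W →+* A := Localization.localRingHom p q (algebraMap V B) rfl
  letI : Algebra W A := φ.toAlgebra
  haveI : IsScalarTower V W A := .of_algebraMap_eq fun v => by
    show algebraMap V A v = φ (algebraMap V W v)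
    rw [Localization.localRingHom_to_map, ← IsScalarTower.algebraMap_apply]
  haveI : IsLocalHom (algebraMap W A) := Localization.isLocalHom_localRingHom p q (algebraMap V B) rfl
  haveI : Algebra.EssFiniteType B A := Algebra.EssFiniteType.of_isLocalization A q.primeCompl
  haveI : Algebra.EssFiniteType V A := Algebra.EssFiniteType.comp V B A
  haveI : Algebra.EssFiniteType W A := Algebra.EssFiniteType.of_comp V W A
  haveI : Module.Flat W A := (Module.flat_iff_of_isLocalization W p.primeCompl (M := A)).mpr inferInstance
  letI : Module W M := Module.compHom M (algebraMap W A)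
  haveI : IsScalarTower W A M := .of_algebraMap_smul fun _ _ => rfl
  haveI : IsScalarTower V W M := .of_algebraMap_smul fun v x => by
    show algebraMap W A (algebraMap V W v) • x = v • x
    rw [← IsScalarTower.algebraMap_apply, algebraMap_smul]
  haveI : Module.Flat W M := (Module.flat_iff_of_isLocalization W p.primeCompl (M := M)).mpr inferInstance
  exact finitePresentation_of_flat W (A := A)

include V in
/-- The kernel of a map of finite free modules is finite. -/
theorem finite_ker_free {r s : ℕ} (f : (Fin r → Localization.AtPrime q) →ₗ[Localization.AtPrime q] (Fin s → Localization.AtPrime q)) :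
    Module.Finite (Localization.AtPrime q) (LinearMap.ker f) := by
  let A := Localization.AtPrime q
  let p := q.comap (algebraMap V B)
  haveI : Module.Flat B A := IsLocalization.flat A q.primeCompl
  haveI : Module.Flat V A := Module.Flat.trans V B A
  let W := Localization.AtPrime p
  haveI : ValuationRing W := valuationRing_localization V p
  let φ : W →+* A := Localization.localRingHom p q (algebraMap V B) rfl
  letI : Algebra W A := φ.toAlgebra
  haveI : IsScalarTower V W A := .of_algebraMap_eq fun v => by
    show algebraMap V A v = φ (algebraMap V W v)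
    rw [Localization.localRingHom_to_map, ← IsScalarTower.algebraMap_apply]
  haveI : IsLocalHom (algebraMap W A) := Localization.isLocalHom_localRingHom p q (algebraMap V B) rfl
  haveI : Algebra.EssFiniteType B A := Algebra.EssFiniteType.of_isLocalization A q.primeCompl
  haveI : Algebra.EssFiniteType V A := Algebra.EssFiniteType.comp V B A
  haveI : Algebra.EssFiniteType W A := Algebra.EssFiniteType.of_comp V W A
  haveI : Module.Flat W A := (Module.flat_iff_of_isLocalization W p.primeCompl (M := A)).mpr inferInstance
  haveI := flat_pi (W := W) (A := A) s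
  haveI : Module.Flat W (LinearMap.range f) :=
    flat_of_injective W ((LinearMap.range f).subtype.restrictScalars W) Subtype.val_injective
  haveI : Module.FinitePresentation A (LinearMap.range f) := finitePresentation_of_flat W (A := A)
  rw [Module.Finite.iff_fg, show LinearMap.ker f = LinearMap.ker f.rangeRestrict from (LinearMap.ker_rangeRestrict f).symm]
  exact Module.FinitePresentation.fg_ker f.rangeRestrict f.surjective_rangeRestrict

/-- A finitely presented module sits at the end of a sequence of finite free modules. -/
theorem exists_two_step {A : Type u} [CommRing A] (M : Type u) [AddCommGroup M] [Module A M] [Module.FinitePresentation A M] :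
    ∃ (r₁ r₀ : ℕ) (f : (Fin r₁ → A) →ₗ[A] (Fin r₀ → A)) (π : (Fin r₀ → A) →ₗ[A] M),
      Function.Surjective π ∧ LinearMap.range f = LinearMap.ker π := by
  obtain ⟨r₀, π, hπ⟩ := Module.Finite.exists_fin' A M
  obtain ⟨r₁, v, hv⟩ := Submodule.fg_iff_exists_fin_generating_family.mp (Module.FinitePresentation.fg_ker π hπ)
  exact ⟨r₁, r₀, Fintype.linearCombination A v, π, hπ, by rw [Fintype.range_linearCombination, hv]⟩

/-- The dual sequence. -/
theorem exact_dualMap {A : Type u} [CommRing A] {M : Type u} [AddCommGroup M] [Module A M] {r₁ r₀ : ℕ}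
    (f : (Fin r₁ → A) →ₗ[A] (Fin r₀ → A)) (π : (Fin r₀ → A) →ₗ[A] M) (hπ : Function.Surjective π)
    (hf : LinearMap.range f = LinearMap.ker π) :
    Function.Injective π.dualMap ∧ LinearMap.range π.dualMap = LinearMap.ker f.dualMap := by
  refine ⟨LinearMap.dualMap_injective_of_surjective hπ, le_antisymm ?_ fun Φ hΦ => ?_⟩
  · rintro _ ⟨Φ, rfl⟩
    refine LinearMap.ext fun x => ?_
    show Φ (π (f x)) = 0
    rw [show π (f x) = 0 from LinearMap.mem_ker.mp (hf ▸ LinearMap.mem_range_self f x), map_zero]
  · have hle : LinearMap.ker π ≤ LinearMap.ker Φ := hf ▸ fun _ ⟨x, hx⟩ => hx ▸ LinearMap.congr_fun hΦ x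
    refine ⟨(LinearMap.ker π).liftQ Φ hle ∘ₗ (π.quotKerEquivOfSurjective hπ).symm.toLinearMap, LinearMap.ext fun x => ?_⟩
    show (LinearMap.ker π).liftQ Φ hle ((π.quotKerEquivOfSurjective hπ).symm (π x)) = Φ x
    rw [show (π.quotKerEquivOfSurjective hπ).symm (π x) = Submodule.Quotient.mk x from
      (π.quotKerEquivOfSurjective hπ).symm_apply_apply (Submodule.Quotient.mk x)]
    rfl

/-- The bound for reflexive modules. -/
theorem hasProjectiveDimensionLE_of_isReflexive
    (hreg : IsRegularLocalRing (Localization.AtPrime q ⧸ Ideal.map (algebraMap V (Localization.AtPrime q)) (Ideal.comap (algebraMap V B) q)))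
    (hn : ringKrullDim (Localization.AtPrime q ⧸ Ideal.map (algebraMap V (Localization.AtPrime q)) (Ideal.comap (algebraMap V B) q)) = n)
    (M : Type u) [AddCommGroup M] [Module (Localization.AtPrime q) M] [Module.FinitePresentation (Localization.AtPrime q) M]
    [Module.IsReflexive (Localization.AtPrime q) M] :
    HasProjectiveDimensionLE (ModuleCat.of (Localization.AtPrime q) M) (n - 1) := by
  let A := Localization.AtPrime q
  -- the dual is finitely presented
  obtain ⟨r₁, r₀, f, π, hπ, hf⟩ := exists_two_step (A := A) M
  obtain ⟨hinj, hrange⟩ := exact_dualMap f π hπ hf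
  let e : ∀ r : ℕ, Module.Dual A (Fin r → A) ≃ₗ[A] (Fin r → A) := fun r =>
    ((Pi.basisFun A (Fin r)).toDualEquiv).symm
  let g : (Fin r₀ → A) →ₗ[A] (Fin r₁ → A) := (e r₁).toLinearMap ∘ₗ f.dualMap ∘ₗ (e r₀).symm.toLinearMap
  haveI := finite_ker_free q (V := V) g
  have hker : LinearMap.ker g = (LinearMap.ker f.dualMap).map (e r₀).toLinearMap := by
    ext x
    simp only [g, LinearMap.mem_ker, LinearMap.comp_apply, LinearEquiv.coe_coe, LinearEquiv.map_eq_zero_iff,
      Submodule.mem_map]
    exact ⟨fun h => ⟨_, h, (e r₀).apply_symm_apply x⟩, fun ⟨y, hy, hyx⟩ => by rw [← hyx, (e r₀).symm_apply_apply]; exact hy⟩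
  haveI : Module.Finite A (Module.Dual A M) :=
    Module.Finite.equiv (((LinearEquiv.ofInjective π.dualMap hinj).trans (LinearEquiv.ofEq _ _ hrange)).trans
      (((e r₀).submoduleMap _).trans (LinearEquiv.ofEq _ _ hker.symm))).symm
  obtain ⟨s₀, ρ, hρ⟩ := Module.Finite.exists_fin' A (Module.Dual A M)
  haveI hflat : Module.Flat V (Module.Dual A M) := by
    haveI := flat_submodule_pi q (V := V) (LinearMap.ker g)
    exact Module.Flat.of_linearEquiv ((((LinearEquiv.ofInjective π.dualMap hinj).trans (LinearEquiv.ofEq _ _ hrange)).trans
      (((e r₀).submoduleMap _).trans (LinearEquiv.ofEq _ _ hker.symm))).restrictScalars V)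
  haveI : Module.FinitePresentation A (Module.Dual A M) := by
    haveI : Module.Finite A (Module.Dual A M) := inferInstance
    exact finitePresentation_of_flat_localized q (V := V) (Module.Dual A M)
  obtain ⟨s₁, s₀, f', π', hπ', hf'⟩ := exists_two_step (A := A) (Module.Dual A M)
  obtain ⟨hinj', hrange'⟩ := exact_dualMap f' π' hπ' hf'
  -- the cokernel
  let F₀ := Module.Dual A (Fin s₀ → A)
  let F₁ := Module.Dual A (Fin s₁ → A)
  haveI : Module.Finite A F₀ := Module.Finite.equiv (e s₀).symm
  haveI : Module.Free A F₀ := Module.Free.of_equiv (e s₀).symm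
  haveI : Module.Finite A F₁ := Module.Finite.equiv (e s₁).symm
  haveI : Module.Free A F₁ := Module.Free.of_equiv (e s₁).symm
  let h := f'.dualMap
  haveI : Module.FinitePresentation A F₁ := Module.finitePresentation_of_projective A F₁
  haveI : Module.FinitePresentation A (F₁ ⧸ LinearMap.range h) :=
    Module.finitePresentation_of_surjective (LinearMap.range h).mkQ (Submodule.mkQ_surjective _)
      (by rw [Submodule.ker_mkQ]; exact Module.Finite.iff_fg.mp inferInstance)
  have hC : HasProjectiveDimensionLT (ModuleCat.of A (F₁ ⧸ LinearMap.range h)) (n + 2) :=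
    hasProjectiveDimensionLE_succ q n hreg hn _
  haveI : Projective (ModuleCat.of A F₁) := (IsProjective.iff_projective _).mp Module.Projective.of_free
  have hR : HasProjectiveDimensionLT (ModuleCat.of A (LinearMap.range h)) (n + 1) := by
    have hS := shortExact_ker (LinearMap.range h).mkQ (Submodule.mkQ_surjective _)
    have := hS.hasProjectiveDimensionLT_X₁ (n + 1) inferInstance hC
    haveI := this
    exact hasProjectiveDimensionLT_of_iso
      (X := ModuleCat.of A (LinearMap.ker (LinearMap.range h).mkQ)) (LinearEquiv.ofEq _ _ (Submodule.ker_mkQ _)).toModuleIso _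
  haveI : Projective (ModuleCat.of A F₀) := (IsProjective.iff_projective _).mp Module.Projective.of_free
  have hK : HasProjectiveDimensionLT (ModuleCat.of A (LinearMap.ker h.rangeRestrict)) (n - 1 + 1) := by
    haveI := hR
    exact (shortExact_ker h.rangeRestrict h.surjective_rangeRestrict).hasProjectiveDimensionLT_X₁ (n - 1 + 1)
      inferInstance (hasProjectiveDimensionLT_of_ge (ModuleCat.of A (LinearMap.range h)) (n + 1) (n - 1 + 1 + 1) (by omega))
  let ι : M ≃ₗ[A] LinearMap.ker h.rangeRestrict :=
    ((Module.evalEquiv A M).trans ((LinearEquiv.ofInjective π'.dualMap hinj').trans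
      (LinearEquiv.ofEq _ _ (hrange'.trans (LinearMap.ker_rangeRestrict h).symm))))
  haveI := hK
  exact hasProjectiveDimensionLT_of_iso (X := ModuleCat.of A (LinearMap.ker h.rangeRestrict)) ι.symm.toModuleIso _

end Groth.Agent.FlatValPD
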